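import Mathlib.AlgebraicGeometry.Morphisms.Immersion
import Mathlib.AlgebraicGeometry.Morphisms.Finite
import Mathlib.AlgebraicGeometry.ProjectiveSpectrum.Basic
import Mathlib.RingTheory.Spectrum.Prime.Topology

/-! # Finite sets of points in affine opens of schemes immersed in affine schemes or `Proj`

* `K383.FinAff.exists_homogeneous_avoid`: homogeneous prime avoidance.
* `K383.FinAff.exists_affine_Spec`, `exists_affine_Proj`: a finite set of points of an open of
  `Spec A` or `Proj 𝒜` is contained in an affine open contained in that open.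
* `K383.FinAff.of_isImmersion`: transfers this to schemes immersed. -/

set_option autoImplicit false
universe u
open CategoryTheory CategoryTheory.Limits AlgebraicGeometry

namespace K383.FinAff

section Homog

variable {R A : Type*} [CommRing R] [CommRing A] [Algebra R A]
    (𝒜 : ℕ → Submodule R A) [GradedAlgebra 𝒜]

lemma exists_homog_notMem (J : Ideal A) (hJ : J.IsHomogeneous 𝒜) (p : Ideal A) (h : ¬ J ≤ p) :
    ∃ (i : ℕ) (a : A), a ∈ 𝒜 i ∧ a ∈ J ∧ a ∉ p := by
  classical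
  by_contra hcon
  push Not at hcon
  apply h
  intro x hx
  rw [← DirectSum.sum_support_decompose 𝒜 x]
  exact Ideal.sum_mem _ fun i _ => hcon i _ (SetLike.coe_mem _) (hJ i hx)

/-- Homogeneous prime avoidance. -/
theorem exists_homogeneous_avoid (I : Ideal A) (hI : I.IsHomogeneous 𝒜)
    (T : Finset (ProjectiveSpectrum 𝒜)) (hT : ∀ x ∈ T, ¬ I ≤ x.asHomogeneousIdeal.toIdeal) :
    ∃ (n : ℕ) (f : A), 0 < n ∧ f ∈ 𝒜 n ∧ f ∈ I ∧ ∀ x ∈ T, f ∉ x.asHomogeneousIdeal := by
  classical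
  induction hn : T.card generalizing T with
  | zero =>
    rw [Finset.card_eq_zero] at hn
    subst hn
    exact ⟨1, 0, one_pos, Submodule.zero_mem _, I.zero_mem, by simp⟩
  | succ m ih =>
    have hne : T.Nonempty := by
      rw [← Finset.card_pos]; omega
    obtain ⟨p, hp⟩ := T.exists_minimal hne
    have hpT : p ∈ T := hp.1
    obtain ⟨a, f, ha, hf, hfI, hfT⟩ := ih (T.erase p)
      (fun x hx => hT x (Finset.mem_of_mem_erase hx)) (by
        rw [Finset.card_erase_of_mem hpT, hn]; rfl)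
    by_cases hfp : f ∈ p.asHomogeneousIdeal
    swap
    · refine ⟨a, f, ha, hf, hfI, fun x hx => ?_⟩
      by_cases hxp : x = p
      · exact hxp ▸ hfp
      · exact hfT x (Finset.mem_erase.2 ⟨hxp, hx⟩)
    have hpprime := p.isPrime
    -- `z ∈ I` of positive degree not in `p`
    obtain ⟨i, z₀, hz₀, hz₀I, hz₀p⟩ := exists_homog_notMem 𝒜 I hI _ (hT p hpT)
    obtain ⟨j, s, hs, hsI, hsp⟩ := exists_homog_notMem 𝒜 _ (HomogeneousIdeal.irrelevant 𝒜).isHomogeneous
      p.asHomogeneousIdeal.toIdeal p.not_irrelevant_le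
    have hy : ∀ q ∈ T.erase p, ∃ (k : ℕ) (y : A), y ∈ 𝒜 k ∧ y ∈ q.asHomogeneousIdeal ∧
        y ∉ p.asHomogeneousIdeal := by
      intro q hq
      have hqp : ¬ q.asHomogeneousIdeal.toIdeal ≤ p.asHomogeneousIdeal.toIdeal := by
        intro hle
        have h1 : q ≤ p := (ProjectiveSpectrum.as_ideal_le_as_ideal 𝒜 q p).1 hle
        have h2 := hp.2 (Finset.mem_of_mem_erase hq) h1
        exact (Finset.mem_erase.1 hq).1 (le_antisymm h1 h2)
      exact exists_homog_notMem 𝒜 _ q.asHomogeneousIdeal.isHomogeneous _ hqp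
    choose! k y hyk hyq hyp using hy
    have hj : j ≠ 0 := by
      rintro rfl
      apply hsp
      have h1 : s ∈ HomogeneousIdeal.irrelevant 𝒜 := hsI
      rw [HomogeneousIdeal.mem_irrelevant_iff, GradedRing.proj_apply,
        DirectSum.decompose_of_mem_same 𝒜 hs] at h1
      rw [h1]
      exact Ideal.zero_mem _
    let w : A := z₀ * s * ∏ q ∈ T.erase p, y q
    have hw : w ∈ 𝒜 (i + j + ∑ q ∈ T.erase p, k q) := by
      refine SetLike.mul_mem_graded (SetLike.mul_mem_graded hz₀ hs) ?_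
      exact SetLike.prod_mem_graded _ _ _ fun q hq => hyk q hq
    have hwI : w ∈ I := I.mul_mem_right _ (I.mul_mem_right _ hz₀I)
    have hwp : w ∉ p.asHomogeneousIdeal.toIdeal := by
      intro h
      rcases hpprime.mem_or_mem h with h | h
      · exact (hpprime.mem_or_mem h).elim hz₀p hsp
      · rw [hpprime.prod_mem_iff] at h
        obtain ⟨q, hq, h⟩ := h
        exact hyp q hq h
    have hwq : ∀ q ∈ T.erase p, w ∈ q.asHomogeneousIdeal.toIdeal := by
      intro q hq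
      refine Ideal.mul_mem_left _ _ ?_
      rw [← Finset.mul_prod_erase _ _ hq]
      exact Ideal.mul_mem_right _ _ (hyq q hq)
    set b := i + j + ∑ q ∈ T.erase p, k q with hb
    have hbpos : 0 < b := by omega
    refine ⟨b * a, f ^ b + w ^ a, Nat.mul_pos hbpos ha, ?_, ?_, ?_⟩
    · refine Submodule.add_mem _ ?_ ?_
      · have := SetLike.pow_mem_graded b hf
        rwa [smul_eq_mul] at this
      · have := SetLike.pow_mem_graded a hw
        rwa [smul_eq_mul, mul_comm] at this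
    · exact I.add_mem (I.pow_mem_of_mem hfI _ hbpos) (I.pow_mem_of_mem hwI _ ha)
    · intro x hx hmem
      have hmem' : f ^ b + w ^ a ∈ x.asHomogeneousIdeal.toIdeal := hmem
      have hxprime := x.isPrime
      by_cases hxp : x = p
      · subst hxp
        have h1 : f ^ b ∈ x.asHomogeneousIdeal.toIdeal := Ideal.pow_mem_of_mem _ hfp _ hbpos
        have h2 := (Ideal.add_mem_iff_right _ h1).1 hmem'
        exact hwp (hxprime.mem_of_pow_mem _ h2)
      · have hx' : x ∈ T.erase p := Finset.mem_erase.2 ⟨hxp, hx⟩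
        have h1 : w ^ a ∈ x.asHomogeneousIdeal.toIdeal := Ideal.pow_mem_of_mem _ (hwq x hx') _ ha
        have h2 := (Ideal.add_mem_iff_left _ h1).1 hmem'
        exact hfT x hx' (hxprime.mem_of_pow_mem _ h2)

end Homog

theorem exists_affine_Proj {R A : Type u} [CommRing R] [CommRing A] [Algebra R A]
    (𝒜 : ℕ → Submodule R A) [GradedAlgebra 𝒜] (W : (Proj 𝒜).Opens) (T : Finset (Proj 𝒜))
    (hT : ∀ x ∈ T, x ∈ W) : ∃ U : (Proj 𝒜).Opens, IsAffineOpen U ∧ (∀ x ∈ T, x ∈ U) ∧ U ≤ W := by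
  classical
  have hC : IsClosed ((W : Set (Proj 𝒜))ᶜ) := W.isOpen.isClosed_compl
  let C : Set (ProjectiveSpectrum 𝒜) := (W : Set (Proj 𝒜))ᶜ
  have hC' : ProjectiveSpectrum.zeroLocus 𝒜 (ProjectiveSpectrum.vanishingIdeal C) = C := by
    have h1 := ProjectiveSpectrum.zeroLocus_vanishingIdeal_eq_closure 𝒜 C
    exact h1.trans (IsClosed.closure_eq hC)
  obtain ⟨n, f, hn, hf, hfI, hfT⟩ := exists_homogeneous_avoid 𝒜
    (ProjectiveSpectrum.vanishingIdeal C).toIdeal (ProjectiveSpectrum.vanishingIdeal C).isHomogeneous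
    T (fun x hx hle => by
      have h1 : x ∈ C := by
        rw [← hC']
        exact hle
      exact h1 (hT x hx))
  refine ⟨Proj.basicOpen 𝒜 f, Proj.isAffineOpen_basicOpen 𝒜 f hf hn, fun x hx => ?_, fun x hx => ?_⟩
  · exact hfT x hx
  · by_contra hxW
    exact hx ((ProjectiveSpectrum.mem_vanishingIdeal _ _).1 hfI x hxW)

theorem exists_basicOpen_Spec {A : Type u} [CommRing A] (V : Set (PrimeSpectrum A))
    (hV : IsOpen V) (F : Finset (PrimeSpectrum A)) (hF : ∀ x ∈ F, x ∈ V) :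
    ∃ g : A, (∀ x ∈ F, x ∈ PrimeSpectrum.basicOpen g) ∧
      (PrimeSpectrum.basicOpen g : Set (PrimeSpectrum A)) ⊆ V := by
  classical
  obtain ⟨I, hI⟩ := (PrimeSpectrum.isOpen_iff V).mp hV
  have h : ¬ ((Ideal.span I : Ideal A) : Set A) ⊆
      ⋃ p ∈ (PrimeSpectrum.asIdeal '' (F : Set (PrimeSpectrum A))), (id p : Ideal A) := by
    rw [Ideal.subset_union_prime_finite (F.finite_toSet.image _) (f := id)
      ⊤ ⊤ (by rintro _ ⟨x, hx, rfl⟩ - -; exact x.2)]
    rintro ⟨_, ⟨x, hx, rfl⟩, hle⟩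
    have h1 : x ∈ Vᶜ := by
      rw [hI]
      exact (PrimeSpectrum.mem_zeroLocus x I).mpr (Ideal.span_le.mp hle)
    exact h1 (hF x hx)
  obtain ⟨g, hgI, hg⟩ := Set.not_subset.mp h
  refine ⟨g, fun x hx ↦ ?_, fun x hx ↦ ?_⟩
  · intro hgx
    exact hg (Set.mem_biUnion ⟨x, hx, rfl⟩ hgx)
  · by_contra hxW
    have h1 : x ∈ Vᶜ := hxW
    rw [hI] at h1
    have : I ⊆ x.asIdeal := (PrimeSpectrum.mem_zeroLocus x I).mp h1
    exact hx (Ideal.span_le.mpr this hgI)

theorem exists_affine_Spec {A : Type u} [CommRing A] (W : (Spec (CommRingCat.of A)).Opens)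
    (T : Finset (Spec (CommRingCat.of A)))
    (hT : ∀ x ∈ T, x ∈ W) :
    ∃ U : (Spec (CommRingCat.of A)).Opens, IsAffineOpen U ∧ (∀ x ∈ T, x ∈ U) ∧ U ≤ W := by
  obtain ⟨g, h1, h2⟩ := exists_basicOpen_Spec (A := A) W.1 W.2 T hT
  exact ⟨PrimeSpectrum.basicOpen g, IsAffineOpen.Spec_basicOpen (R := CommRingCat.of A) g, h1, h2⟩

/-- An affine scheme has the property. -/
theorem exists_affine_of_isAffine {Y : Scheme.{u}} [IsAffine Y] (W : Y.Opens) (T : Finset Y)
    (hT : ∀ x ∈ T, x ∈ W) : ∃ U : Y.Opens, IsAffineOpen U ∧ (∀ x ∈ T, x ∈ U) ∧ U ≤ W := by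
  classical
  let e := Y.isoSpec
  obtain ⟨U, hU, h1, h2⟩ := exists_affine_Spec (A := Γ(Y, ⊤)) (e.inv ⁻¹ᵁ W) (T.image e.hom) (by
    intro x hx
    obtain ⟨y, hy, rfl⟩ := Finset.mem_image.mp hx
    change e.inv (e.hom y) ∈ W
    rw [← Scheme.Hom.comp_apply, e.hom_inv_id]
    exact hT y hy)
  refine ⟨e.hom ⁻¹ᵁ U, hU.preimage e.hom, fun x hx => h1 _ (Finset.mem_image_of_mem _ hx),
    fun x hx => ?_⟩
  have h4 := h2 hx
  change e.inv (e.hom x) ∈ W at h4
  rw [← Scheme.Hom.comp_apply, e.hom_inv_id] at h4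
  exact h4

/-- finite sets of points in a scheme immersed in a scheme with the property above. -/
theorem of_isImmersion {X Y : Scheme.{u}} (j : X ⟶ Y) [IsImmersion j]
    (hY : ∀ (W : Y.Opens) (T : Finset Y), (∀ x ∈ T, x ∈ W) →
      ∃ U : Y.Opens, IsAffineOpen U ∧ (∀ x ∈ T, x ∈ U) ∧ U ≤ W)
    (E : Set X) (hE : E.Finite) : ∃ U : X.Opens, IsAffineOpen U ∧ E ⊆ U := by
  classical
  obtain ⟨U, hU, hTU, hUW⟩ := hY j.coborderRange (hE.toFinset.image j) (by
    intro x hx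
    obtain ⟨y, -, rfl⟩ := Finset.mem_image.1 hx
    exact subset_coborder ⟨y, rfl⟩)
  refine ⟨j ⁻¹ᵁ U, ?_, fun x hx => hTU _ (Finset.mem_image.2 ⟨x, by simpa using hx, rfl⟩)⟩
  have h1 : IsAffineOpen (j.coborderRange.ι ⁻¹ᵁ U) := by
    apply hU.preimage_of_isOpenImmersion
    simpa using hUW
  have h2 : j ⁻¹ᵁ U = j.liftCoborder ⁻¹ᵁ (j.coborderRange.ι ⁻¹ᵁ U) := by
    rw [← Scheme.Hom.comp_preimage, j.liftCoborder_ι]
  rw [h2]
  exact h1.preimage j.liftCoborder

end K383.FinAff
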