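import Groth.Agent.CalgB.GRing2
import Groth.Agent.Ega4B.GRingLoc
import Groth.Agent.Ega4fib.H152.LocClosedPoint

/-!
# G-schemes

`RegAt X x`: the completion map of the local ring of `X` at `x` is regular.
-/

set_option autoImplicit false
universe u

namespace Groth.Agent.Mor.K383.GSch

open CategoryTheory AlgebraicGeometry IsLocalRing

/-- the completion map of the local ring at `x` is a regular homomorphism -/
abbrev RegAt (X : Scheme.{u}) (x : X) : Prop :=
  CAlg.IsRegularHom (X.presheaf.stalk x)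
    (AdicCompletion (maximalIdeal (X.presheaf.stalk x)) (X.presheaf.stalk x))

/-- all local rings of an affine open with G-ring of sections have regular completion map -/
theorem regAt_of_isGRing {X : Scheme.{u}} {U : X.Opens} (hU : IsAffineOpen U)
    (h : CAlg.IsGRing Γ(X, U)) (x : U) : RegAt X x := by
  have hN := h.1
  have hloc := hU.isLocalization_stalk x
  have hNs : IsNoetherianRing (X.presheaf.stalk x) :=
    IsLocalization.isNoetherianRing (hU.primeIdealOf x).asIdeal.primeCompl _ inferInstance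
  have hG : CAlg.IsGRing (X.presheaf.stalk x.1) :=
    Groth.Agent.Ega4B.GRingLoc.isGRing_of_isLocalization Γ(X, U) (X.presheaf.stalk x)
      (hU.primeIdealOf x).asIdeal.primeCompl h
  exact (Groth.Agent.CalgB.GRing2.isGRing_iff_of_isLocalRing _).1 hG

/-- conversely -/
theorem isGRing_of_regAt {X : Scheme.{u}} {U : X.Opens} (hU : IsAffineOpen U)
    (hN : IsNoetherianRing Γ(X, U)) (h : ∀ x ∈ U, RegAt X x) : CAlg.IsGRing Γ(X, U) := by
  refine ⟨hN, fun p hp ↦ ?_⟩
  obtain ⟨x, hx⟩ : ∃ x : U, hU.primeIdealOf x = ⟨p, hp⟩ := by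
    refine ⟨⟨hU.fromSpec (⟨p, hp⟩ : PrimeSpectrum Γ(X, U)), ?_⟩, ?_⟩
    · have := hU.range_fromSpec
      change _ ∈ (U : Set X)
      rw [← this]
      exact ⟨_, rfl⟩
    · apply hU.fromSpec.isOpenEmbedding.injective
      rw [hU.fromSpec_primeIdealOf]
  have hloc := hU.isLocalization_stalk x
  rw [hx] at hloc
  have hNs : IsNoetherianRing (X.presheaf.stalk x) :=
    IsLocalization.isNoetherianRing p.primeCompl _ inferInstance
  let e : Localization.AtPrime p ≃ₐ[Γ(X, U)] X.presheaf.stalk x :=
    IsLocalization.algEquiv p.primeCompl _ _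
  exact Groth.Agent.Ega4A.PFibre.isRegularHom_cpl_of_ringEquiv e.symm.toRingEquiv (h x x.2)

/-- localization at a smaller prime -/
theorem regAt_of_aux (R : Type u) [CommRing R] (p q : Ideal R) [p.IsPrime] [q.IsPrime]
    (hpq : p ≤ q) (A B : Type u) [CommRing A] [CommRing B] [Algebra R A] [Algebra R B]
    [IsLocalization.AtPrime A p] [IsLocalization.AtPrime B q] [IsLocalRing A]
    (hB : CAlg.IsGRing B) : CAlg.IsRegularHom A (AdicCompletion (maximalIdeal A) A) := by
  have hNB := hB.1
  let M : Submonoid B := Algebra.algebraMapSubmonoid B p.primeCompl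
  have hle : q.primeCompl ≤ p.primeCompl := fun a ha hap ↦ ha (hpq hap)
  let _ : Algebra B A := (IsLocalization.map A (RingHom.id R)
    (show q.primeCompl ≤ p.primeCompl.comap (RingHom.id R) from hle) : B →+* A).toAlgebra
  have : IsScalarTower R B A := IsScalarTower.of_algebraMap_eq fun r ↦ by
    rw [RingHom.algebraMap_toAlgebra, IsLocalization.map_eq]
    rfl
  have hM : IsLocalization M A :=
    IsLocalization.isLocalization_of_submonoid_le B A q.primeCompl p.primeCompl hle
  have hNA : IsNoetherianRing A := IsLocalization.isNoetherianRing M _ inferInstance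
  exact (Groth.Agent.CalgB.GRing2.isGRing_iff_of_isLocalRing _).1
    (Groth.Agent.Ega4B.GRingLoc.isGRing_of_isLocalization B A M hB)

/-- regularity of the completion map passes to generizations -/
theorem RegAt.of_specializes {X : Scheme.{u}} [IsLocallyNoetherian X] {x y : X} (hxy : x ⤳ y)
    (h : RegAt X y) : RegAt X x := by
  obtain ⟨_, ⟨W, hW, rfl⟩, hyW, -⟩ :=
    X.isBasis_affineOpens.exists_subset_of_mem_open (Set.mem_univ y) isOpen_univ
  have hxW : x ∈ (W : Set X) := hxy.mem_open W.2 hyW
  have hN : IsNoetherianRing Γ(X, W) := IsLocallyNoetherian.component_noetherian ⟨W, hW⟩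
  obtain ⟨x', rfl⟩ : ∃ x' : W, x'.1 = x := ⟨⟨x, hxW⟩, rfl⟩
  obtain ⟨y', rfl⟩ : ∃ y' : W, y'.1 = y := ⟨⟨y, hyW⟩, rfl⟩
  have hlx := hW.isLocalization_stalk x'
  have hly := hW.isLocalization_stalk y'
  have hle : (hW.primeIdealOf x').asIdeal ≤ (hW.primeIdealOf y').asIdeal := by
    have h1 : IsAffineOpen.primeIdealOf hW x' ⤳ IsAffineOpen.primeIdealOf hW y' := by
      refine (IsAffineOpen.fromSpec hW).isOpenEmbedding.isInducing.specializes_iff.1 ?_
      have e1 := IsAffineOpen.fromSpec_primeIdealOf hW x'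
      have e2 := IsAffineOpen.fromSpec_primeIdealOf hW y'
      rw [e1, e2]
      exact hxy
    exact (PrimeSpectrum.le_iff_specializes _ _).2 h1
  have hG : CAlg.IsGRing (X.presheaf.stalk y'.1) :=
    (Groth.Agent.CalgB.GRing2.isGRing_iff_of_isLocalRing _).2 h
  exact regAt_of_aux Γ(X, W) _ _ hle (X.presheaf.stalk x'.1) (X.presheaf.stalk y'.1) hG

/-- every point of a locally noetherian scheme specializes to a closed point -/
theorem exists_specializes_isClosed {X : Scheme.{u}} [IsLocallyNoetherian X] (x : X) :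
    ∃ y : X, x ⤳ y ∧ IsClosed ({y} : Set X) := by
  obtain ⟨z, hz, hzc⟩ := Groth.Agent.Ega4fib.H152.LocClosedPoint.exists_isLocallyClosed_singleton
    (Z := closure {x}) isClosed_closure.isLocallyClosed ⟨x, subset_closure rfl⟩
  have hxz : x ⤳ z := specializes_iff_mem_closure.2 hz
  by_cases h : IsClosed ({z} : Set X)
  · exact ⟨z, hxz, h⟩
  · have : ∃ w ∈ closure ({z} : Set X), w ≠ z := by
      by_contra hcon
      push Not at hcon
      apply h
      rw [← closure_subset_iff_isClosed]
      intro w hw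
      exact hcon w hw
    obtain ⟨w, hw, hne⟩ := this
    have hzw : z ⤳ w := specializes_iff_mem_closure.2 hw
    exact ⟨w, hxz.trans hzw,
      Groth.Agent.Ega4fib.H152.LocClosedPoint.isClosed_singleton_of_specializes z w hzc hzw hne⟩

theorem isLocallyNoetherian_of_gScheme {X : Scheme.{u}}
    (h : ∀ x : X, ∃ U : X.Opens, x ∈ U ∧ IsAffineOpen U ∧ CAlg.IsGRing Γ(X, U)) :
    IsLocallyNoetherian X := by
  choose U hxU hU hG using h
  refine isLocallyNoetherian_of_affine_cover (ι := X) (S := fun x ↦ ⟨U x, hU x⟩) ?_ fun x ↦ (hG x).1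
  rw [eq_top_iff]
  intro x _
  exact TopologicalSpace.Opens.mem_iSup.2 ⟨x, hxU x⟩

end Groth.Agent.Mor.K383.GSch
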