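import Groth.Agent.Mor.K383.UHCore

/-! # Elements with square and cube in the base, for a universal homeomorphism: conclusion -/

set_option autoImplicit false
universe u
open CategoryTheory AlgebraicGeometry Limits

namespace K383.UH

theorem comap_unique {A S : Type u} [CommRing A] [CommRing S] [Algebra A S]
    (hU : FlatMor.IsUnivHomeo (Spec.map (CommRingCat.ofHom (algebraMap A S))))
    (Q Q' : Ideal S) [hQ : Q.IsPrime] [hQ' : Q'.IsPrime]
    (h : Q.comap (algebraMap A S) = Q'.comap (algebraMap A S)) : Q = Q' := by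
  have h1 := (Groth.Agent.FlatA.UnivHomeo.isHomeomorph_of_isUnivHomeo hU).injective
  have h2 : (⟨Q, hQ⟩ : PrimeSpectrum S) = ⟨Q', hQ'⟩ := by
    apply h1
    exact PrimeSpectrum.ext h
  exact congrArg PrimeSpectrum.asIdeal h2

theorem pure_insep {A S : Type u} [CommRing A] [CommRing S] [Algebra A S]
    (hK : ∀ (K : Type u) [Field K] (g₁ g₂ : S →+* K),
      g₁.comp (algebraMap A S) = g₂.comp (algebraMap A S) → g₁ = g₂)
    (Q : Ideal S) [Q.IsPrime] : ∃ q : ℕ, (q = 1 ∨ (q.Prime ∧ (q : S) ∈ Q)) ∧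
      ∀ b : S, ∃ (n : ℕ) (s a : A), algebraMap A S s ∉ Q ∧
        algebraMap A S s * b ^ q ^ n - algebraMap A S a ∈ Q := by
  let P : Ideal A := Q.comap (algebraMap A S)
  have hP : P.IsPrime := Ideal.comap_isPrime _ _
  have hQ : P = Q.comap (algebraMap A S) := rfl
  let φ := Ideal.ResidueField.map P Q (algebraMap A S) hQ
  let : Algebra P.ResidueField Q.ResidueField := φ.toAlgebra
  have hφ : ∀ a : A, algebraMap P.ResidueField Q.ResidueField (algebraMap A _ a) =
      algebraMap S Q.ResidueField (algebraMap A S a) := fun a =>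
    Ideal.ResidueField.map_algebraMap P Q (algebraMap A S) hQ a
  obtain ⟨q, hq⟩ := ExpChar.exists P.ResidueField
  have : IsPurelyInseparable P.ResidueField Q.ResidueField := by
    have : Nonempty (Q.ResidueField →+* AlgebraicClosure Q.ResidueField) := ⟨algebraMap _ _⟩
    refine IsPurelyInseparable.of_injective_comp_algebraMap _ _ (AlgebraicClosure Q.ResidueField) ?_
    intro g₁ g₂ h12
    have h1 : g₁.comp (algebraMap S _) = g₂.comp (algebraMap S _) := by
      refine hK _ _ _ ?_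
      ext a
      have := RingHom.congr_fun h12 (algebraMap A _ a)
      simpa [hφ] using this
    refine IsLocalization.ringHom_ext (nonZeroDivisors (S ⧸ Q)) ?_
    refine Ideal.Quotient.ringHom_ext ?_
    exact h1
  refine ⟨q, ?_, fun b => ?_⟩
  · rcases hq with _ | ⟨hp, hc⟩
    · exact Or.inl rfl
    · refine Or.inr ⟨hp, ?_⟩
      have : ((q : ℕ) : P.ResidueField) = 0 := CharP.cast_eq_zero _ _
      rw [← map_natCast (algebraMap A P.ResidueField), Ideal.algebraMap_residueField_eq_zero] at this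
      have h2 : algebraMap A S (q : A) ∈ Q := this
      rwa [map_natCast] at h2
  · obtain ⟨n, c, hc⟩ := IsPurelyInseparable.pow_mem P.ResidueField q (algebraMap S Q.ResidueField b)
    obtain ⟨r', t', ht', rfl⟩ := IsFractionRing.div_surjective (A := A ⧸ P) c
    obtain ⟨r, rfl⟩ := Ideal.Quotient.mk_surjective r'
    obtain ⟨t, rfl⟩ := Ideal.Quotient.mk_surjective t'
    have ht : t ∉ P := by
      intro h
      rw [Ideal.Quotient.eq_zero_iff_mem.2 h] at ht'
      exact (nonZeroDivisors.ne_zero ht') rfl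
    refine ⟨n, t, r, ht, ?_⟩
    rw [← Ideal.algebraMap_residueField_eq_zero, map_sub, map_mul, map_pow, ← hc, ← hφ, ← hφ, ← map_mul,
      sub_eq_zero]
    congr 1
    have ht2 : algebraMap A P.ResidueField t ≠ 0 := fun h => ht (Ideal.algebraMap_residueField_eq_zero.1 h)
    rw [Ideal.algebraMap_quotient_residueField_mk, Ideal.algebraMap_quotient_residueField_mk,
      mul_div_cancel₀ _ ht2]

section

variable {A B : Type u} [CommRing A] [CommRing B] [Algebra A B]

theorem exists_sq_cube_alg (hinj : Function.Injective (algebraMap A B))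
    (hne : ∃ x : B, x ∉ (algebraMap A B).range)
    (hU : FlatMor.IsUnivHomeo (Spec.map (CommRingCat.ofHom (algebraMap A B))))
    (hres : ∀ (Q : Ideal B) [Q.IsPrime] (b : B), ∃ s a : A, algebraMap A B s ∉ Q ∧
      algebraMap A B s * b - algebraMap A B a ∈ Q) :
    ∃ b : B, b ∉ (algebraMap A B).range ∧ b ^ 2 ∈ (algebraMap A B).range ∧
      b ^ 3 ∈ (algebraMap A B).range := by
  obtain ⟨x, hx⟩ := hne
  have hint : (algebraMap A B).IsIntegral := ((isUnivHomeo_iff _).1 hU).1
  let B' := Algebra.adjoin A {x}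
  have : Module.Finite A B' :=
    Algebra.finite_adjoin_simple_of_isIntegral (hint x)
  have hx' : x ∈ B' := Algebra.subset_adjoin (Set.mem_singleton x)
  obtain ⟨b, hb, h2, h3⟩ := exists_sq_cube_aux (A := A) (S := B')
    (fun a a' h => hinj (congrArg Subtype.val h))
    ⟨⟨x, hx'⟩, fun ⟨a, ha⟩ => hx ⟨a, congrArg Subtype.val ha⟩⟩
    (fun Q Q' _ _ h => comap_unique (isUnivHomeo_sub B' hU) Q Q' h)
    (fun Q _ b => residue_sub B' hint hres Q b)
  refine ⟨b, ?_, ?_, ?_⟩
  · rintro ⟨a, ha⟩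
    exact hb ⟨a, Subtype.ext ha⟩
  · obtain ⟨a, ha⟩ := h2
    exact ⟨a, congrArg Subtype.val ha⟩
  · obtain ⟨a, ha⟩ := h3
    exact ⟨a, congrArg Subtype.val ha⟩

theorem exists_sq_cube_or_prime_alg (hinj : Function.Injective (algebraMap A B))
    (hne : ∃ x : B, x ∉ (algebraMap A B).range)
    (hU : FlatMor.IsUnivHomeo (Spec.map (CommRingCat.ofHom (algebraMap A B)))) :
    (∃ b : B, b ∉ (algebraMap A B).range ∧ b ^ 2 ∈ (algebraMap A B).range ∧
      b ^ 3 ∈ (algebraMap A B).range) ∨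
    ∃ (p : ℕ) (b : B), p.Prime ∧ b ∉ (algebraMap A B).range ∧
      (p : B) * b ∈ (algebraMap A B).range ∧ b ^ p ∈ (algebraMap A B).range := by
  obtain ⟨x, hx⟩ := hne
  have hint : (algebraMap A B).IsIntegral := ((isUnivHomeo_iff _).1 hU).1
  let B' := Algebra.adjoin A {x}
  have : Module.Finite A B' :=
    Algebra.finite_adjoin_simple_of_isIntegral (hint x)
  have hx' : x ∈ B' := Algebra.subset_adjoin (Set.mem_singleton x)
  have hU' := isUnivHomeo_sub B' hU
  rcases exists_sq_cube_or_prime_aux (A := A) (S := B')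
    (fun a a' h => hinj (congrArg Subtype.val h))
    ⟨⟨x, hx'⟩, fun ⟨a, ha⟩ => hx ⟨a, congrArg Subtype.val ha⟩⟩
    (fun Q Q' _ _ h => comap_unique hU' Q Q' h)
    (fun Q _ => pure_insep ((isUnivHomeo_iff _).1 hU').2.2 Q) with
    ⟨b, hb, h2, h3⟩ | ⟨p, b, hp, hb, h2, h3⟩
  · left
    refine ⟨b, ?_, ?_, ?_⟩
    · rintro ⟨a, ha⟩
      exact hb ⟨a, Subtype.ext ha⟩
    · obtain ⟨a, ha⟩ := h2
      exact ⟨a, congrArg Subtype.val ha⟩
    · obtain ⟨a, ha⟩ := h3
      exact ⟨a, congrArg Subtype.val ha⟩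
  · right
    refine ⟨p, b, hp, ?_, ?_, ?_⟩
    · rintro ⟨a, ha⟩
      exact hb ⟨a, Subtype.ext ha⟩
    · obtain ⟨a, ha⟩ := h2
      exact ⟨a, by simpa using congrArg Subtype.val ha⟩
    · obtain ⟨a, ha⟩ := h3
      exact ⟨a, congrArg Subtype.val ha⟩

end

end K383.UH
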