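import Groth.Agent.UnramB.SqZeroSplit
import Groth.Agent.VarietyB.PullSec
import Mathlib.RingTheory.LocalProperties.Projective

/-! # Locally projective quasi-coherent modules

* `K383.ProjCover.projective_of_cover`: projectivity of a module is local on `Spec`.
* `projective_sections`: for a quasi-coherent module, projectivity of the sections over affine opens can be
  checked on an affine open covering. -/

set_option autoImplicit false
universe u
open CategoryTheory AlgebraicGeometry Opposite

namespace K383.ProjCover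

open TensorProduct

theorem projective_of_lift {R : Type u} [CommRing R] {ι : Type u} [Finite ι]
    (B : ι → Type u) [∀ j, CommRing (B j)] [∀ j, Algebra R (B j)]
    [Module.FaithfullyFlat R (Π j, B j)] (N : Type u) [AddCommGroup N] [Module R N]
    (NB : ι → Type u) [∀ j, AddCommGroup (NB j)] [∀ j, Module R (NB j)] [∀ j, Module (B j) (NB j)]
    [∀ j, IsScalarTower R (B j) (NB j)] (φ : ∀ j, N →ₗ[R] NB j)
    (hφ : ∀ j, IsBaseChange (B j) (φ j)) (h : ∀ j, Module.Projective (B j) (NB j)) :
    Module.Projective R N := by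
  refine Groth.Agent.UnramB.SqZeroSplit.projective_of_local_lifting B N ?_
  intro j M M' _ _ _ _ _ _ _ _ f hf g
  obtain ⟨k, hk⟩ := Module.projective_lifting_property f ((hφ j).lift g) hf
  refine ⟨k.restrictScalars R ∘ₗ φ j, ?_⟩
  ext n
  have h1 := LinearMap.congr_fun hk (φ j n)
  rw [LinearMap.comp_apply, (hφ j).lift_eq] at h1
  exact h1

theorem faithfullyFlat {R : Type u} [CommRing R] {ι : Type u} [Finite ι] (s : ι → R)
    (hs : Ideal.span (Set.range s) = ⊤) (B : ι → Type u) [∀ j, CommRing (B j)] [∀ j, Algebra R (B j)]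
    [∀ j, IsLocalization.Away (s j) (B j)] : Module.FaithfullyFlat R (Π j, B j) := by
  have : ∀ j, Module.Flat R (B j) := fun j => IsLocalization.flat _ (Submonoid.powers (s j))
  apply Groth.Agent.PerfB.FFFamily.faithfullyFlat_pi
  intro p
  obtain ⟨j, hj⟩ : ∃ j, s j ∉ p.asIdeal := by
    by_contra hcon
    push Not at hcon
    refine p.2.ne_top (top_le_iff.mp (hs ▸ Ideal.span_le.mpr ?_))
    rintro _ ⟨j, rfl⟩
    exact hcon j
  refine ⟨j, ?_⟩
  have : p ∈ Set.range (PrimeSpectrum.comap (algebraMap R (B j))) := by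
    rw [PrimeSpectrum.localization_away_comap_range _ (s j)]
    exact hj
  exact this

theorem projective_of_cover {R : Type u} [CommRing R] {ι : Type u} [Finite ι] (s : ι → R)
    (hs : Ideal.span (Set.range s) = ⊤)
    (B : ι → Type u) [∀ j, CommRing (B j)] [∀ j, Algebra R (B j)]
    [∀ j, IsLocalization.Away (s j) (B j)] (N : Type u) [AddCommGroup N] [Module R N]
    (NB : ι → Type u) [∀ j, AddCommGroup (NB j)] [∀ j, Module R (NB j)] [∀ j, Module (B j) (NB j)]
    [∀ j, IsScalarTower R (B j) (NB j)] (φ : ∀ j, N →ₗ[R] NB j)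
    (hφ : ∀ j, IsLocalizedModule.Away (s j) (φ j)) (h : ∀ j, Module.Projective (B j) (NB j)) :
    Module.Projective R N := by
  have := faithfullyFlat s hs B
  exact projective_of_lift B N NB φ
    (fun j => (isLocalizedModule_iff_isBaseChange (Submonoid.powers (s j)) (B j) (φ j)).1 (hφ j)) h

open Groth.Agent.Fdesc.QCohStalk in
theorem projective_sections {X : Scheme.{u}} {F : X.Modules} (hF : Coh.IsQCoh F) {ι : Type*}
    (U : ι → X.Opens) (hU : ∀ i, IsAffineOpen (U i)) (hcov : (⨆ i, U i) = ⊤)
    (h : ∀ i, Module.Projective Γ(X, U i) Γ(F, U i)) (V : X.Opens) (hV : IsAffineOpen V) :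
    Module.Projective Γ(X, V) Γ(F, V) := by
  classical
  refine of_affine_open_cover (P := fun V : X.affineOpens => Module.Projective Γ(X, V) Γ(F, V))
    (fun i => ⟨U i, hU i⟩) hcov ⟨V, hV⟩ ?_ ?_ h
  · intro W f hW
    let _ : Algebra Γ(X, W.1) Γ(X, X.basicOpen f) := (X.presheaf.map (homOfLE (X.basicOpen_le f)).op).hom.toAlgebra
    let _ := resModule F (X.basicOpen_le f)
    have _ : IsScalarTower Γ(X, W.1) Γ(X, X.basicOpen f) Γ(F, X.basicOpen f) :=
      ⟨fun a b c => by rw [Algebra.smul_def, mul_smul]; rfl⟩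
    have _ : IsLocalization.Away f Γ(X, X.basicOpen f) := W.2.isLocalization_basicOpen f
    have _ := isLocalizedModule_res F W.2 hF f
    show Module.Projective Γ(X, X.basicOpen f) Γ(F, X.basicOpen f)
    exact Module.projective_of_isLocalizedModule (Submonoid.powers f) (resₗ F (X.basicOpen_le f))
  · intro W s hs hW
    let _ : ∀ f : s, Algebra Γ(X, W.1) Γ(X, X.basicOpen f.1) :=
      fun f => (X.presheaf.map (homOfLE (X.basicOpen_le f.1)).op).hom.toAlgebra
    let _ := fun f : s => resModule F (X.basicOpen_le f.1)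
    have _ : ∀ f : s, IsScalarTower Γ(X, W.1) Γ(X, X.basicOpen f.1) Γ(F, X.basicOpen f.1) :=
      fun f => ⟨fun a b c => by rw [Algebra.smul_def, mul_smul]; rfl⟩
    have _ : ∀ f : s, IsLocalization.Away f.1 Γ(X, X.basicOpen f.1) :=
      fun f => W.2.isLocalization_basicOpen f.1
    exact projective_of_cover (ι := s) (fun f => f.1) (by simpa using hs)
      (fun f => Γ(X, X.basicOpen f.1)) Γ(F, W.1) (fun f => Γ(F, X.basicOpen f.1))
      (fun f => resₗ F (X.basicOpen_le f.1)) (fun f => isLocalizedModule_res F W.2 hF f.1) hW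

end K383.ProjCover
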