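import Groth.Agent.Mor.K383.UHMain
import Mathlib.Algebra.Algebra.Subalgebra.Lattice
import Mathlib.RingTheory.IntegralClosure.Algebra.Basic

/-! # Towers of simple extensions and universal homeomorphisms -/

set_option autoImplicit false
universe u
open CategoryTheory AlgebraicGeometry Limits

namespace K383.UH

section Tower

variable {A B : Type u} [CommRing A] [CommRing B] [Algebra A B]
variable (P : Subalgebra A B → B → Prop)

/-- A list `b_1, …, b_n` with `P (A[b_1, …, b_{i-1}]) b_i` for all `i`. -/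
def Tower (l : List B) : Prop :=
  ∀ i : Fin l.length, P (Algebra.adjoin A {b : B | ∃ j : Fin l.length, j < i ∧ b = l.get j}) (l.get i)

lemma take_set (l : List B) (i : ℕ) (hi : i < l.length) :
    {b : B | ∃ j : Fin l.length, j < (⟨i, hi⟩ : Fin l.length) ∧ b = l.get j} = {b : B | b ∈ l.take i} := by
  ext b
  simp only [Set.mem_setOf_eq, List.mem_take_iff_getElem]
  constructor
  · rintro ⟨j, hj, rfl⟩
    exact ⟨j, by simp only [lt_min_iff]; exact ⟨hj, j.2⟩, by simp⟩
  · rintro ⟨j, hj, rfl⟩
    rw [lt_min_iff] at hj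
    exact ⟨⟨j, hj.2⟩, hj.1, by simp⟩

lemma tower_iff (l : List B) : Tower P l ↔ ∀ (i : ℕ) (hi : i < l.length),
    P (Algebra.adjoin A {b : B | b ∈ l.take i}) l[i] := by
  unfold Tower
  rw [Fin.forall_iff]
  refine forall₂_congr fun i hi => ?_
  rw [take_set]
  rfl

variable {P}

lemma tower_nil : Tower P [] := fun i => i.elim0

lemma Tower.append (hmono : ∀ (C C' : Subalgebra A B) (b : B), C ≤ C' → P C b → P C' b)
    {l l' : List B} (h : Tower P l) (h' : Tower P l') : Tower P (l ++ l') := by
  rw [tower_iff] at *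
  intro i hi
  rcases lt_or_ge i l.length with h1 | h1
  · rw [List.take_append_of_le_length h1.le, List.getElem_append_left h1]
    exact h i h1
  · rw [List.getElem_append_right h1]
    have h2 : i - l.length < l'.length := by
      rw [List.length_append] at hi
      omega
    refine hmono _ _ _ ?_ (h' _ h2)
    apply Algebra.adjoin_mono
    intro b hb
    simp only [Set.mem_setOf_eq] at hb ⊢
    rw [List.take_append]
    exact List.mem_append_right _ hb

lemma Tower.concat {l : List B} {b : B} (h : Tower P l)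
    (hb : P (Algebra.adjoin A {b : B | b ∈ l}) b) : Tower P (l ++ [b]) := by
  rw [tower_iff] at *
  intro i hi
  rcases lt_or_ge i l.length with h1 | h1
  · rw [List.take_append_of_le_length h1.le, List.getElem_append_left h1]
    exact h i h1
  · have h2 : i = l.length := by
      rw [List.length_append, List.length_singleton] at hi
      omega
    subst h2
    rw [List.take_append_of_le_length le_rfl, List.take_length, List.getElem_append_right le_rfl]
    simpa using hb

lemma Tower.subset {l : List B} (h : Tower P l) (G : Subalgebra A B)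
    (hG : ∀ (C : Subalgebra A B) (b : B), C ≤ G → P C b → b ∈ G) :
    Algebra.adjoin A {b : B | b ∈ l} ≤ G := by
  rw [tower_iff] at h
  have key : ∀ n : ℕ, ∀ b ∈ l.take n, b ∈ G := by
    intro n
    induction n with
    | zero => intro b hb; simp at hb
    | succ n ih =>
      intro b hb
      rcases lt_or_ge n l.length with h1 | h1
      · rw [List.take_succ_eq_append_getElem h1] at hb
        rcases List.mem_append.1 hb with hb | hb
        · exact ih b hb
        · rw [List.mem_singleton] at hb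
          subst hb
          exact hG _ _ (Algebra.adjoin_le ih) (h n h1)
      · rw [List.take_of_length_le (by omega)] at hb
        exact ih b (by rwa [List.take_of_length_le h1])
  apply Algebra.adjoin_le
  intro b hb
  exact key l.length b (by rwa [List.take_length])

/-- the union of all towers. -/
def towerUnion (hmono : ∀ (C C' : Subalgebra A B) (b : B), C ≤ C' → P C b → P C' b) :
    Subalgebra A B where
  carrier := {b | ∃ l : List B, Tower P l ∧ b ∈ Algebra.adjoin A {b : B | b ∈ l}}
  mul_mem' := by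
    rintro a b ⟨l, hl, ha⟩ ⟨l', hl', hb⟩
    refine ⟨l ++ l', hl.append hmono hl', mul_mem ?_ ?_⟩
    · exact Algebra.adjoin_mono (fun x hx => List.mem_append_left _ hx) ha
    · exact Algebra.adjoin_mono (fun x hx => List.mem_append_right _ hx) hb
  add_mem' := by
    rintro a b ⟨l, hl, ha⟩ ⟨l', hl', hb⟩
    refine ⟨l ++ l', hl.append hmono hl', add_mem ?_ ?_⟩
    · exact Algebra.adjoin_mono (fun x hx => List.mem_append_left _ hx) ha
    · exact Algebra.adjoin_mono (fun x hx => List.mem_append_right _ hx) hb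
  algebraMap_mem' := fun r => ⟨[], tower_nil, Subalgebra.algebraMap_mem _ r⟩

lemma mem_towerUnion (hmono : ∀ (C C' : Subalgebra A B) (b : B), C ≤ C' → P C b → P C' b) (b : B) :
    b ∈ towerUnion hmono ↔ ∃ l : List B, Tower P l ∧ b ∈ Algebra.adjoin A {b : B | b ∈ l} := Iff.rfl

lemma exists_tower_finset
    (hmono : ∀ (C C' : Subalgebra A B) (b : B), C ≤ C' → P C b → P C' b) (E : Finset B)
    (hE : ∀ b ∈ E, b ∈ towerUnion hmono) :
    ∃ l : List B, Tower P l ∧ (↑E : Set B) ⊆ Algebra.adjoin A {b : B | b ∈ l} := by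
  classical
  induction E using Finset.induction_on with
  | empty => exact ⟨[], tower_nil, by simp⟩
  | insert a s ha ih =>
    obtain ⟨l, hl, hs⟩ := ih (fun b hb => hE b (Finset.mem_insert_of_mem hb))
    obtain ⟨l', hl', ha'⟩ := hE a (Finset.mem_insert_self _ _)
    refine ⟨l ++ l', hl.append hmono hl', ?_⟩
    intro b hb
    rw [Finset.coe_insert] at hb
    rcases hb with rfl | hb
    · exact Algebra.adjoin_mono (fun x hx => List.mem_append_right _ hx) ha'
    · exact Algebra.adjoin_mono (fun x hx => List.mem_append_left _ hx) (hs hb)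

end Tower

section Props

variable {A B : Type u} [CommRing A] [CommRing B] [Algebra A B]

/-- square and cube in `C`. -/
def SqCube (C : Subalgebra A B) (b : B) : Prop := b ^ 2 ∈ C ∧ b ^ 3 ∈ C

/-- square and cube in `C`, or `p b` and `b ^ p` in `C`. -/
def SqCubeOr (C : Subalgebra A B) (b : B) : Prop :=
  (b ^ 2 ∈ C ∧ b ^ 3 ∈ C) ∨ ∃ p : ℕ, p.Prime ∧ (p : B) * b ∈ C ∧ b ^ p ∈ C

lemma SqCube.or {C : Subalgebra A B} {b : B} (h : SqCube C b) : SqCubeOr C b := Or.inl h

lemma sqCube_mono (C C' : Subalgebra A B) (b : B) (h : C ≤ C') (hb : SqCube C b) : SqCube C' b :=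
  ⟨h hb.1, h hb.2⟩

lemma sqCubeOr_mono (C C' : Subalgebra A B) (b : B) (h : C ≤ C') (hb : SqCubeOr C b) :
    SqCubeOr C' b := by
  rcases hb with ⟨h1, h2⟩ | ⟨p, hp, h1, h2⟩
  · exact Or.inl ⟨h h1, h h2⟩
  · exact Or.inr ⟨p, hp, h h1, h h2⟩

lemma sqCubeOr_integral (C : Subalgebra A B) (b : B) (h : C ≤ integralClosure A B)
    (hb : SqCubeOr C b) : b ∈ integralClosure A B := by
  rcases hb with ⟨h1, h2⟩ | ⟨p, hp, h1, h2⟩
  · exact IsIntegral.of_pow two_pos (h h1)
  · exact IsIntegral.of_pow hp.pos (h h2)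

/-- elements where two ring homs agree. -/
def eqSub {K : Type u} [Field K] (g₁ g₂ : B →+* K)
    (h : g₁.comp (algebraMap A B) = g₂.comp (algebraMap A B)) : Subalgebra A B where
  carrier := {b | g₁ b = g₂ b}
  mul_mem' := by
    intro a b ha hb
    simp only [Set.mem_setOf_eq] at *
    rw [map_mul, map_mul, ha, hb]
  add_mem' := by
    intro a b ha hb
    simp only [Set.mem_setOf_eq] at *
    rw [map_add, map_add, ha, hb]
  algebraMap_mem' := fun r => RingHom.congr_fun h r

lemma field_sq_cube {K : Type u} [Field K] {x y : K} (h2 : x ^ 2 = y ^ 2) (h3 : x ^ 3 = y ^ 3) :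
    x = y := by
  by_cases hx : x = 0
  · subst hx
    rw [zero_pow two_ne_zero] at h2
    exact (pow_eq_zero_iff two_ne_zero |>.1 h2.symm).symm
  · have e1 : x ^ 3 = x ^ 2 * x := by ring
    have e2 : y ^ 3 = y ^ 2 * y := by ring
    rw [e1, e2, ← h2] at h3
    exact mul_left_cancel₀ (pow_ne_zero 2 hx) h3

lemma field_prime {K : Type u} [Field K] {x y : K} {p : ℕ} (hp : p.Prime)
    (h2 : (p : K) * x = (p : K) * y) (h3 : x ^ p = y ^ p) : x = y := by
  by_cases hx : (p : K) = 0
  · have : CharP K p := (CharP.charP_iff_prime_eq_zero hp).2 hx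
    have : Fact p.Prime := ⟨hp⟩
    exact frobenius_inj K p h3
  · exact mul_left_cancel₀ hx h2

lemma sqCubeOr_eqSub {K : Type u} [Field K] (g₁ g₂ : B →+* K)
    (h : g₁.comp (algebraMap A B) = g₂.comp (algebraMap A B)) (C : Subalgebra A B) (b : B)
    (hC : C ≤ eqSub g₁ g₂ h) (hb : SqCubeOr C b) : b ∈ eqSub g₁ g₂ h := by
  rcases hb with ⟨h1, h2⟩ | ⟨p, hp, h1, h2⟩
  · have e1 : g₁ (b ^ 2) = g₂ (b ^ 2) := hC h1
    have e2 : g₁ (b ^ 3) = g₂ (b ^ 3) := hC h2
    rw [map_pow, map_pow] at e1 e2
    exact field_sq_cube e1 e2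
  · have e1 : g₁ ((p : B) * b) = g₂ ((p : B) * b) := hC h1
    have e2 : g₁ (b ^ p) = g₂ (b ^ p) := hC h2
    rw [map_mul, map_mul, map_natCast, map_natCast] at e1
    rw [map_pow, map_pow] at e2
    exact field_prime hp e1 e2

/-- elements of `B` whose residue at `Q` comes from the residue field of `A`. -/
def resSub (Q : Ideal B) [Q.IsPrime] : Subalgebra A B where
  carrier := {b | ∃ s a : A, algebraMap A B s ∉ Q ∧ algebraMap A B s * b - algebraMap A B a ∈ Q}
  mul_mem' := by
    rintro b b' ⟨s, a, hs, hsa⟩ ⟨s', a', hs', hsa'⟩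
    refine ⟨s * s', a * a', ?_, ?_⟩
    · rw [map_mul]
      exact fun h => (Ideal.IsPrime.mem_or_mem inferInstance h).elim hs hs'
    · have h1 := Q.mul_mem_right (algebraMap A B s' * b') hsa
      have h2 := Q.mul_mem_left (algebraMap A B a) hsa'
      have := add_mem h1 h2
      convert this using 1
      rw [map_mul, map_mul]
      ring
  add_mem' := by
    rintro b b' ⟨s, a, hs, hsa⟩ ⟨s', a', hs', hsa'⟩
    refine ⟨s * s', s' * a + s * a', ?_, ?_⟩
    · rw [map_mul]
      exact fun h => (Ideal.IsPrime.mem_or_mem inferInstance h).elim hs hs'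
    · have h1 := Q.mul_mem_left (algebraMap A B s') hsa
      have h2 := Q.mul_mem_left (algebraMap A B s) hsa'
      have := add_mem h1 h2
      convert this using 1
      rw [map_mul, map_add, map_mul, map_mul]
      ring
  algebraMap_mem' := fun r => ⟨1, r, by
    rw [map_one]; exact fun h => (inferInstance : Q.IsPrime).ne_top ((Ideal.eq_top_iff_one _).2 h), by
    rw [map_one, one_mul, sub_self]; exact Q.zero_mem⟩

lemma sqCube_resSub (Q : Ideal B) [Q.IsPrime] (C : Subalgebra A B) (b : B)
    (hC : C ≤ resSub Q) (hb : SqCube C b) : b ∈ resSub (A := A) Q := by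
  by_cases hbQ : b ∈ Q
  · refine ⟨1, 0, ?_, ?_⟩
    · rw [map_one]; exact fun h => (inferInstance : Q.IsPrime).ne_top ((Ideal.eq_top_iff_one _).2 h)
    · rw [map_one, one_mul, map_zero, sub_zero]; exact hbQ
  · obtain ⟨s, a, hs, hsa⟩ := hC hb.1
    obtain ⟨s', a', hs', hsa'⟩ := hC hb.2
    -- a / s = b ^ 2, a' / s' = b ^ 3, b = (a' s) / (s' a)
    have ha : algebraMap A B a ∉ Q := by
      intro h
      have h1 := add_mem hsa h
      rw [sub_add_cancel] at h1
      rcases Ideal.IsPrime.mem_or_mem inferInstance h1 with h2 | h2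
      · exact hs h2
      · exact hbQ (Ideal.IsPrime.mem_of_pow_mem inferInstance _ h2)
    refine ⟨s' * a, a' * s, ?_, ?_⟩
    · rw [map_mul]
      exact fun h => (Ideal.IsPrime.mem_or_mem inferInstance h).elim hs' ha
    · have h1 := Q.mul_mem_left (algebraMap A B s' * b) hsa
      have h2 := Q.mul_mem_left (algebraMap A B s) hsa'
      have := sub_mem h2 h1
      convert this using 1
      rw [map_mul, map_mul]
      ring

theorem isUnivHomeo_of_towers (hker : RingHom.ker (algebraMap A B) ≤ nilradical A)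
    (h : ∀ b : B, ∃ l : List B, Tower (SqCubeOr (A := A)) l ∧ b ∈ Algebra.adjoin A {b : B | b ∈ l}) :
    FlatMor.IsUnivHomeo (Spec.map (CommRingCat.ofHom (algebraMap A B))) := by
  rw [isUnivHomeo_iff]
  refine ⟨fun b => ?_, hker, fun K _ g₁ g₂ h12 => RingHom.ext fun b => ?_⟩
  · obtain ⟨l, hl, hb⟩ := h b
    exact hl.subset (integralClosure A B) sqCubeOr_integral hb
  · obtain ⟨l, hl, hb⟩ := h b
    exact hl.subset (eqSub g₁ g₂ h12) (sqCubeOr_eqSub g₁ g₂ h12) hb

theorem residue_of_towers
    (h : ∀ b : B, ∃ l : List B, Tower (SqCube (A := A)) l ∧ b ∈ Algebra.adjoin A {b : B | b ∈ l})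
    (x : Spec (CommRingCat.of B)) :
    Function.Surjective ((Spec.map (CommRingCat.ofHom (algebraMap A B))).residueFieldMap x) := by
  revert x
  rw [residue_iff]
  intro Q _ b
  obtain ⟨l, hl, hb⟩ := h b
  exact hl.subset (resSub Q) (sqCube_resSub Q) hb

lemma Tower.mono' {P P' : Subalgebra A B → B → Prop} (h : ∀ C b, P C b → P' C b) {l : List B}
    (hl : Tower P l) : Tower P' l := fun i => h _ _ (hl i)

theorem towers_of_isUnivHomeo_residue (hinj : Function.Injective (algebraMap A B))
    (hU : FlatMor.IsUnivHomeo (Spec.map (CommRingCat.ofHom (algebraMap A B))))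
    (hres : ∀ x : Spec (CommRingCat.of B),
        Function.Surjective ((Spec.map (CommRingCat.ofHom (algebraMap A B))).residueFieldMap x))
    (E : Finset B) : ∃ l : List B, Tower (SqCube (A := A)) l ∧
      (↑E : Set B) ⊆ Algebra.adjoin A {b : B | b ∈ l} := by
  classical
  rw [residue_iff] at hres
  apply exists_tower_finset sqCube_mono
  by_contra hcon
  push Not at hcon
  obtain ⟨b, -, hb⟩ := hcon
  obtain ⟨c, hc, hc2, hc3⟩ := exists_sq_cube_alg
    (A := towerUnion (P := SqCube (A := A) (B := B)) sqCube_mono) (B := B) Subtype.val_injective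
    ⟨b, fun ⟨a, ha⟩ => hb (ha ▸ a.2)⟩
    (isUnivHomeo_top _ hU) (fun Q _ b => residue_top _ hres Q b)
  apply hc
  have h2 : c ^ 2 ∈ towerUnion (P := SqCube (A := A) (B := B)) sqCube_mono := by
    obtain ⟨a, ha⟩ := hc2
    exact ha ▸ a.2
  have h3 : c ^ 3 ∈ towerUnion (P := SqCube (A := A) (B := B)) sqCube_mono := by
    obtain ⟨a, ha⟩ := hc3
    exact ha ▸ a.2
  obtain ⟨l, hl, hE⟩ := exists_tower_finset sqCube_mono {c ^ 2, c ^ 3} (by
    intro b hb
    simp only [Finset.mem_insert, Finset.mem_singleton] at hb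
    rcases hb with rfl | rfl
    · exact h2
    · exact h3)
  refine ⟨⟨c, (mem_towerUnion _ _).2 ⟨l ++ [c], hl.concat ⟨hE (by simp), hE (by simp)⟩, ?_⟩⟩, rfl⟩
  exact Algebra.subset_adjoin (by simp)

theorem towers_of_isUnivHomeo (hinj : Function.Injective (algebraMap A B))
    (hU : FlatMor.IsUnivHomeo (Spec.map (CommRingCat.ofHom (algebraMap A B))))
    (E : Finset B) : ∃ l : List B, Tower (SqCubeOr (A := A)) l ∧
      (↑E : Set B) ⊆ Algebra.adjoin A {b : B | b ∈ l} := by
  classical
  apply exists_tower_finset sqCubeOr_mono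
  by_contra hcon
  push Not at hcon
  obtain ⟨b, -, hb⟩ := hcon
  have hmem : ∀ x : B, x ∈ (algebraMap (towerUnion (P := SqCubeOr (A := A) (B := B)) sqCubeOr_mono) B).range →
      x ∈ towerUnion (P := SqCubeOr (A := A) (B := B)) sqCubeOr_mono := by
    rintro x ⟨a, ha⟩
    exact ha ▸ a.2
  rcases exists_sq_cube_or_prime_alg
    (A := towerUnion (P := SqCubeOr (A := A) (B := B)) sqCubeOr_mono) (B := B) Subtype.val_injective
    ⟨b, fun ⟨a, ha⟩ => hb (ha ▸ a.2)⟩
    (isUnivHomeo_top _ hU) with ⟨c, hc, hc2, hc3⟩ | ⟨p, c, hp, hc, hc2, hc3⟩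
  · apply hc
    obtain ⟨l, hl, hE⟩ := exists_tower_finset sqCubeOr_mono {c ^ 2, c ^ 3} (by
      intro b hb
      simp only [Finset.mem_insert, Finset.mem_singleton] at hb
      rcases hb with rfl | rfl
      · exact hmem _ hc2
      · exact hmem _ hc3)
    refine ⟨⟨c, (mem_towerUnion _ _).2 ⟨l ++ [c], hl.concat (Or.inl ⟨hE (by simp), hE (by simp)⟩), ?_⟩⟩, rfl⟩
    exact Algebra.subset_adjoin (by simp)
  · apply hc
    obtain ⟨l, hl, hE⟩ := exists_tower_finset sqCubeOr_mono {(p : B) * c, c ^ p} (by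
      intro b hb
      simp only [Finset.mem_insert, Finset.mem_singleton] at hb
      rcases hb with rfl | rfl
      · exact hmem _ hc2
      · exact hmem _ hc3)
    refine ⟨⟨c, (mem_towerUnion _ _).2 ⟨l ++ [c],
      hl.concat (Or.inr ⟨p, hp, hE (by simp), hE (by simp)⟩), ?_⟩⟩, rfl⟩
    exact Algebra.subset_adjoin (by simp)

end Props

end K383.UH
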