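import Groth.Prelude.Def_Flat
import Groth.Agent.FlatA.UnivHomeo
import Mathlib.AlgebraicGeometry.ResidueField
import Mathlib.AlgebraicGeometry.Morphisms.Integral
import Mathlib.AlgebraicGeometry.Morphisms.UniversallyInjective
import Mathlib.RingTheory.Spectrum.Prime.Homeomorph
import Mathlib.RingTheory.Ideal.GoingUp
import Mathlib.RingTheory.LocalRing.ResidueField.Fiber

/-! # Universal homeomorphisms between affine schemes, ring-theoretically

`K383.UH.isUnivHomeo_iff`: `Spec B → Spec A` is a universal homeomorphism iff `A → B` is integral with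
kernel consisting of nilpotents and two maps from `B` to a field that agree on `A` are equal.

`K383.UH.residue_iff`: all residue field maps of `Spec B → Spec A` are surjective iff for every prime
`Q` of `B` every `b` has `s * b - a ∈ Q` for some `s ∉ Q` and `a` coming from `A`. -/

set_option autoImplicit false
universe u
open CategoryTheory AlgebraicGeometry

namespace K383.UH

section Basic

variable {A B : Type u} [CommRing A] [CommRing B] (φ : A →+* B)

theorem isUnivHomeo_iff : FlatMor.IsUnivHomeo (Spec.map (CommRingCat.ofHom φ)) ↔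
    φ.IsIntegral ∧ RingHom.ker φ ≤ nilradical A ∧
      ∀ (K : Type u) [Field K] (g₁ g₂ : B →+* K), g₁.comp φ = g₂.comp φ → g₁ = g₂ := by
  rw [Groth.Agent.FlatA.UnivHomeo.isUnivHomeo_iff, IsIntegralHom.SpecMap_iff]
  have hT := (tfae_universallyInjective (Spec.map (CommRingCat.ofHom φ))).out 0 1
  have hK : UniversallyInjective (Spec.map (CommRingCat.ofHom φ)) ↔
      ∀ (K : Type u) [Field K] (g₁ g₂ : B →+* K), g₁.comp φ = g₂.comp φ → g₁ = g₂ := by
    refine hT.trans ⟨fun h2 K _ g₁ g₂ h12 => ?_, fun hK K _ g₁ g₂ h12 => ?_⟩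
    · have h3 : Spec.map (CommRingCat.ofHom g₁) = Spec.map (CommRingCat.ofHom g₂) := by
        apply h2 K
        show Spec.map (CommRingCat.ofHom g₁) ≫ Spec.map (CommRingCat.ofHom φ) =
          Spec.map (CommRingCat.ofHom g₂) ≫ Spec.map (CommRingCat.ofHom φ)
        rw [← Spec.map_comp, ← Spec.map_comp, ← CommRingCat.ofHom_comp, ← CommRingCat.ofHom_comp]
        exact congrArg _ (congrArg _ h12)
      exact congrArg CommRingCat.Hom.hom (Spec.map_injective h3)
    · obtain ⟨g₁, rfl⟩ := Spec.map_surjective g₁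
      obtain ⟨g₂, rfl⟩ := Spec.map_surjective g₂
      congr 1
      dsimp only at h12
      rw [← Spec.map_comp, ← Spec.map_comp] at h12
      have h3 := Spec.map_injective h12
      have h4 := hK K g₁.hom g₂.hom (congrArg CommRingCat.Hom.hom h3)
      exact CommRingCat.hom_ext h4
  rw [hK]
  have hS : φ.IsIntegral → (Surjective (Spec.map (CommRingCat.ofHom φ)) ↔
      RingHom.ker φ ≤ nilradical A) := by
    intro hint
    constructor
    · intro hs a ha
      rw [nilradical_eq_sInf, Ideal.mem_sInf]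
      intro P hP
      obtain ⟨Q, hQ⟩ := hs.surj ⟨P, hP⟩
      have h : P = Q.asIdeal.comap φ := (congrArg PrimeSpectrum.asIdeal hQ).symm
      rw [h, Ideal.mem_comap, (RingHom.mem_ker).1 ha]
      exact Q.asIdeal.zero_mem
    · intro hker
      constructor
      show Function.Surjective (PrimeSpectrum.comap φ)
      have h4 : φ.kerLift.IsIntegral := by
        intro x
        obtain ⟨q, hq, hq'⟩ := hint x
        refine ⟨q.map (Ideal.Quotient.mk _), hq.map _, ?_⟩
        rw [Polynomial.eval₂_map]
        exact hq'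
      exact (PrimeSpectrum.comap_quotientMk_bijective_of_le_nilradical hker).2.comp <|
        h4.comap_surjective φ.kerLift_injective
  constructor
  · rintro ⟨h1, h2, h3⟩
    exact ⟨h1, (hS h1).1 h3, h2⟩
  · rintro ⟨h1, h2, h3⟩
    exact ⟨h1, h3, (hS h1).2 h2⟩

end Basic

section Residue

local instance instPrime (R : CommRingCat.{u}) (x : Spec R) : x.asIdeal.IsPrime := x.isPrime

/-- evaluation at a point of `Spec R`. -/
noncomputable def ev (R : CommRingCat.{u}) (x : Spec R) : R →+* (Spec R).residueField x :=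
  ((Scheme.ΓSpecIso R).inv ≫ (Spec R).Γevaluation x).hom

lemma ev_eq (R : CommRingCat.{u}) (x : Spec R) (r : R) :
    ev R x r = (Scheme.Spec.residueFieldIso R x).inv (algebraMap R x.asIdeal.ResidueField r) := by
  have := Scheme.Spec.algebraMap_residueFieldIso_inv R x
  exact (congrArg (fun (f : R ⟶ (Spec R).residueField x) => f r) this).symm

lemma ev_eq_zero_iff (R : CommRingCat.{u}) (x : Spec R) (r : R) :
    ev R x r = 0 ↔ r ∈ x.asIdeal := by
  rw [ev_eq]
  have hinj : Function.Injective (Scheme.Spec.residueFieldIso R x).inv := by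
    have : Function.LeftInverse (Scheme.Spec.residueFieldIso R x).hom
        (Scheme.Spec.residueFieldIso R x).inv := fun y => by
      simp
    exact this.injective
  rw [← Ideal.algebraMap_residueField_eq_zero (I := x.asIdeal)]
  constructor
  · intro h
    apply hinj
    rw [h, map_zero]
  · intro h
    rw [h, map_zero]

lemma exists_ev_mul (R : CommRingCat.{u}) (x : Spec R) (y : (Spec R).residueField x) :
    ∃ s a : R, s ∉ x.asIdeal ∧ ev R x s * y = ev R x a := by
  obtain ⟨y, rfl⟩ : ∃ z, y = (Scheme.Spec.residueFieldIso R x).inv z :=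
    ⟨(Scheme.Spec.residueFieldIso R x).hom y, by simp⟩
  obtain ⟨a', s', hs', rfl⟩ := IsFractionRing.div_surjective (A := R ⧸ x.asIdeal) y
  obtain ⟨a, rfl⟩ := Ideal.Quotient.mk_surjective a'
  obtain ⟨s, rfl⟩ := Ideal.Quotient.mk_surjective s'
  have hs : s ∉ x.asIdeal := by
    intro h
    rw [Ideal.Quotient.eq_zero_iff_mem.2 h] at hs'
    exact (nonZeroDivisors.ne_zero hs') rfl
  refine ⟨s, a, hs, ?_⟩
  rw [ev_eq, ev_eq, ← map_mul]
  congr 1
  have ht2 : algebraMap R x.asIdeal.ResidueField s ≠ 0 :=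
    fun h => hs (Ideal.algebraMap_residueField_eq_zero.1 h)
  rw [Ideal.algebraMap_quotient_residueField_mk, Ideal.algebraMap_quotient_residueField_mk,
    mul_div_cancel₀ _ ht2]

lemma residueFieldMap_ev {R S : CommRingCat.{u}} (f : R ⟶ S) (x : Spec S) (r : R) :
    (Spec.map f).residueFieldMap x (ev R (Spec.map f x) r) = ev S x (f r) := by
  have h1 := Scheme.Γevaluation_naturality (Spec.map f) x
  have h2 := Scheme.ΓSpecIso_inv_naturality f
  have h3 : (Scheme.ΓSpecIso R).inv ≫ (Spec R).Γevaluation (Spec.map f x) ≫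
      (Spec.map f).residueFieldMap x = f ≫ (Scheme.ΓSpecIso S).inv ≫ (Spec S).Γevaluation x := by
    rw [h1, ← Category.assoc, ← h2, Category.assoc]
  exact congrArg (fun (g : R ⟶ (Spec S).residueField x) => g r) h3

variable {A B : Type u} [CommRing A] [CommRing B] (φ : A →+* B)

/-- at one point -/
theorem residue_iff_at (x : Spec (CommRingCat.of B)) :
    Function.Surjective ((Spec.map (CommRingCat.ofHom φ)).residueFieldMap x) ↔
      ∀ b : B, ∃ s a : A, φ s ∉ x.asIdeal ∧ φ s * b - φ a ∈ x.asIdeal := by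
  constructor
  · intro h b
    obtain ⟨y, hy⟩ := h (ev (CommRingCat.of B) x b)
    obtain ⟨s, a, hs, hsa⟩ := exists_ev_mul _ _ y
    refine ⟨s, a, hs, ?_⟩
    rw [← ev_eq_zero_iff, map_sub, map_mul, ← hy]
    have h1 := residueFieldMap_ev (CommRingCat.ofHom φ) x s
    have h2 := residueFieldMap_ev (CommRingCat.ofHom φ) x a
    erw [← h1, ← h2]
    rw [← map_mul, hsa, sub_self]
  · intro h y
    obtain ⟨t, b, ht, htb⟩ := exists_ev_mul _ _ y
    obtain ⟨s, a, hs, hsa⟩ := h b
    obtain ⟨s', a', hs', hsa'⟩ := h t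
    have e1 : ∀ a : A, (Spec.map (CommRingCat.ofHom φ)).residueFieldMap x
        (ev (CommRingCat.of A) _ a) = ev (CommRingCat.of B) x (φ a) :=
      fun a => residueFieldMap_ev (CommRingCat.ofHom φ) x a
    have e2 : ∀ (s a : A) (b : B), φ s * b - φ a ∈ x.asIdeal →
        ev (CommRingCat.of B) x (φ s) * ev (CommRingCat.of B) x b = ev (CommRingCat.of B) x (φ a) := by
      intro s a b h
      rw [← ev_eq_zero_iff, map_sub, map_mul] at h
      exact sub_eq_zero.1 h
    have hs0 : ev (CommRingCat.of B) x (φ s) ≠ 0 := fun h => hs ((ev_eq_zero_iff _ _ _).1 h)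
    have hs'0 : ev (CommRingCat.of B) x (φ s') ≠ 0 := fun h => hs' ((ev_eq_zero_iff _ _ _).1 h)
    have ht0 : ev (CommRingCat.of B) x t ≠ 0 := fun h => ht ((ev_eq_zero_iff _ _ _).1 h)
    have ha'0 : ev (CommRingCat.of B) x (φ a') ≠ 0 := by
      rw [← e2 s' a' t hsa']
      exact mul_ne_zero hs'0 ht0
    refine ⟨ev (CommRingCat.of A) _ (a * s') / ev (CommRingCat.of A) _ (a' * s), ?_⟩
    rw [map_div₀, e1, e1]
    simp only [map_mul]
    rw [div_eq_iff (mul_ne_zero ha'0 hs0)]
    have h3 := e2 s a b hsa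
    have h4 := e2 s' a' t hsa'
    rw [← h3, ← h4, ← htb]
    ring

theorem residue_iff :
    (∀ x : Spec (CommRingCat.of B),
      Function.Surjective ((Spec.map (CommRingCat.ofHom φ)).residueFieldMap x)) ↔
    ∀ (Q : Ideal B) [Q.IsPrime] (b : B), ∃ s a : A, φ s ∉ Q ∧ φ s * b - φ a ∈ Q := by
  constructor
  · intro h Q hQ b
    exact (residue_iff_at φ ⟨Q, hQ⟩).1 (h ⟨Q, hQ⟩) b
  · intro h x
    exact (residue_iff_at φ x).2 fun b => @h x.asIdeal x.isPrime b

end Residue

end K383.UH
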