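import Groth.Agent.Mor.K383.UHSub
import Mathlib.CategoryTheory.Limits.Preserves.Over
import Mathlib.Algebra.Category.Ring.FilteredColimits
import Mathlib.Algebra.Category.Ring.Colimits
import Mathlib.CategoryTheory.Limits.ConcreteCategory.Basic

/-! # Filtered colimits and universal homeomorphisms -/

set_option autoImplicit false
universe u
open CategoryTheory AlgebraicGeometry Limits

namespace K383.UH

theorem universallyInjective_iff {A B : Type u} [CommRing A] [CommRing B] (φ : A →+* B) :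
    UniversallyInjective (Spec.map (CommRingCat.ofHom φ)) ↔
      ∀ (K : Type u) [Field K] (g₁ g₂ : B →+* K), g₁.comp φ = g₂.comp φ → g₁ = g₂ := by
  have hT := (tfae_universallyInjective (Spec.map (CommRingCat.ofHom φ))).out 0 1
  refine hT.trans ⟨fun h2 K _ g₁ g₂ h12 => ?_, fun hK K _ g₁ g₂ h12 => ?_⟩
  · have h3 : Spec.map (CommRingCat.ofHom g₁) = Spec.map (CommRingCat.ofHom g₂) := by
      apply h2 K
      show Spec.map (CommRingCat.ofHom g₁) ≫ Spec.map (CommRingCat.ofHom φ) =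
        Spec.map (CommRingCat.ofHom g₂) ≫ Spec.map (CommRingCat.ofHom φ)
      rw [← Spec.map_comp, ← Spec.map_comp, ← CommRingCat.ofHom_comp, ← CommRingCat.ofHom_comp]
      exact congrArg _ (congrArg _ h12)
    exact congrArg CommRingCat.Hom.hom (Spec.map_injective h3)
  · obtain ⟨g₁, rfl⟩ := Spec.map_surjective g₁
    obtain ⟨g₂, rfl⟩ := Spec.map_surjective g₂
    congr 1
    dsimp only at h12
    rw [← Spec.map_comp, ← Spec.map_comp] at h12
    have h3 := Spec.map_injective h12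
    have h4 := hK K g₁.hom g₂.hom (congrArg CommRingCat.Hom.hom h3)
    exact CommRingCat.hom_ext h4

section

variable {A B : Type u} [CommRing A] [CommRing B] (φ : A →+* B)
  {J : Type u} (S : J → Type u) [∀ j, CommRing (S j)] (ψ : ∀ j, A →+* S j) (ι : ∀ j, S j →+* B)
  (hcomp : ∀ j, (ι j).comp (ψ j) = φ)
  (hsurj : ∀ b : B, ∃ j, ∃ x : S j, ι j x = b)
  (hker : ∀ j, ∀ x : S j, ι j x = 0 → ∃ j' : J, ∃ f : S j →+* S j', f x = 0 ∧ f.comp (ψ j) = ψ j')

include hcomp hsurj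

lemma isIntegral_colim (h : ∀ j, (ψ j).IsIntegral) : φ.IsIntegral := by
  intro b
  obtain ⟨j, x, rfl⟩ := hsurj b
  obtain ⟨p, hp, hpx⟩ := h j x
  refine ⟨p, hp, ?_⟩
  rw [← hcomp j, ← Polynomial.hom_eval₂, hpx, map_zero]

lemma kinj_colim (h : ∀ j, ∀ (K : Type u) [Field K] (g₁ g₂ : S j →+* K),
      g₁.comp (ψ j) = g₂.comp (ψ j) → g₁ = g₂) (K : Type u) [Field K] (g₁ g₂ : B →+* K)
    (h12 : g₁.comp φ = g₂.comp φ) : g₁ = g₂ := by
  ext b
  obtain ⟨j, x, rfl⟩ := hsurj b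
  have := h j K (g₁.comp (ι j)) (g₂.comp (ι j)) (by
    rw [RingHom.comp_assoc, RingHom.comp_assoc, hcomp j, h12])
  exact RingHom.congr_fun this x

lemma residue_colim (h : ∀ j, ∀ (Q : Ideal (S j)) [Q.IsPrime] (b : S j), ∃ s a : A, ψ j s ∉ Q ∧
      ψ j s * b - ψ j a ∈ Q) (Q : Ideal B) [Q.IsPrime] (b : B) : ∃ s a : A, φ s ∉ Q ∧
      φ s * b - φ a ∈ Q := by
  obtain ⟨j, x, rfl⟩ := hsurj b
  obtain ⟨s, a, hs, hsa⟩ := h j (Q.comap (ι j)) x
  refine ⟨s, a, ?_, ?_⟩
  · rw [← hcomp j]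
    exact hs
  · rw [Ideal.mem_comap, map_sub, map_mul] at hsa
    rw [← hcomp j]
    exact hsa

include hker

lemma ker_colim [Nonempty J] (h : ∀ j, RingHom.ker (ψ j) ≤ nilradical A) :
    RingHom.ker φ ≤ nilradical A := by
  intro a ha
  obtain ⟨j⟩ := ‹Nonempty J›
  rw [RingHom.mem_ker, ← hcomp j] at ha
  obtain ⟨j', f, hf, hff⟩ := hker j (ψ j a) ha
  apply h j'
  rw [RingHom.mem_ker, ← hff]
  exact hf

end

end K383.UH
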