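import Groth.Agent.Mor.K383.UHSub
import Groth.Agent.S7397
import Mathlib.RingTheory.Support
import Mathlib.RingTheory.Ideal.MinimalPrime.Basic
import Mathlib.Algebra.CharP.Lemmas
import Mathlib.FieldTheory.PurelyInseparable.Basic

/-! # Elements with square and cube in the base, for a universal homeomorphism -/

set_option autoImplicit false
universe u
open CategoryTheory AlgebraicGeometry Limits

namespace K383.UH

theorem core {A S : Type u} [CommRing A] [CommRing S] [Algebra A S] [Module.Finite A S]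
    (hinj : Function.Injective (algebraMap A S))
    (hne : ∃ x : S, x ∉ (algebraMap A S).range)
    (huniq : ∀ (Q Q' : Ideal S) [Q.IsPrime] [Q'.IsPrime],
      Q.comap (algebraMap A S) = Q'.comap (algebraMap A S) → Q = Q')
    (hno : ∀ b : S, b ^ 2 ∈ (algebraMap A S).range → b ^ 3 ∈ (algebraMap A S).range →
      b ∈ (algebraMap A S).range) :
    ∃ (Q : Ideal S), Q.IsPrime ∧
      (∀ f ∈ Q, ∃ t : A, algebraMap A S t ∉ Q ∧ algebraMap A S t * f ∈ (algebraMap A S).range) ∧
      ∃ b₀ : S, ∀ s : A, algebraMap A S s ∉ Q →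
        algebraMap A S s * b₀ ∉ (algebraMap A S).range := by
  classical
  let N : Submodule A S := LinearMap.range (Algebra.linearMap A S)
  have hN : ∀ x : S, x ∈ N ↔ x ∈ (algebraMap A S).range := fun x => Iff.rfl
  let I := Module.annihilator A (S ⧸ N)
  have hI : ∀ a : A, a ∈ I ↔ ∀ x : S, algebraMap A S a * x ∈ (algebraMap A S).range := by
    intro a
    rw [Module.mem_annihilator]
    constructor
    · intro h x
      have := h (N.mkQ x)
      rw [← map_smul, Submodule.mkQ_apply, Submodule.Quotient.mk_eq_zero, hN, Algebra.smul_def] at this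
      exact this
    · intro h y
      obtain ⟨x, rfl⟩ := N.mkQ_surjective y
      rw [← map_smul, Submodule.mkQ_apply, Submodule.Quotient.mk_eq_zero, hN, Algebra.smul_def]
      exact h x
  have hItop : I ≠ ⊤ := by
    intro h
    obtain ⟨x, hx⟩ := hne
    have : (1 : A) ∈ I := by rw [h]; exact Submodule.mem_top
    have := (hI 1).1 this x
    rw [map_one, one_mul] at this
    exact hx this
  obtain ⟨⟨P, hP⟩⟩ := Ideal.nonempty_minimalPrimes hItop
  have hPprime : P.IsPrime := hP.1.1
  have hIP : I ≤ P := hP.1.2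
  have hsupp : (⟨P, hPprime⟩ : PrimeSpectrum A) ∈ Module.support A (S ⧸ N) := by
    rw [Module.support_eq_zeroLocus]
    exact hIP
  obtain ⟨m, hm⟩ := Module.mem_support_iff'.1 hsupp
  obtain ⟨b₀, rfl⟩ := N.mkQ_surjective m
  obtain ⟨Q', hQ'⟩ : ∃ Q' : PrimeSpectrum S, PrimeSpectrum.comap (algebraMap A S) Q' = ⟨P, hPprime⟩ := by
    have : (algebraMap A S).IsIntegral := fun x => Algebra.IsIntegral.isIntegral x
    exact this.comap_surjective hinj _
  have hQP : Q'.asIdeal.comap (algebraMap A S) = P := congrArg PrimeSpectrum.asIdeal hQ'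
  have hQprime := Q'.isPrime
  generalize Q'.asIdeal = Q at hQP hQprime
  have hmem : ∀ s : A, algebraMap A S s ∉ Q ↔ s ∉ P := by
    intro s
    rw [← hQP]; rfl
  -- elements of I S lie in A
  have hIS : ∀ y ∈ I.map (algebraMap A S), ∀ s : S, s * y ∈ (algebraMap A S).range := by
    intro y hy
    refine Submodule.span_induction ?_ ?_ ?_ ?_ hy
    · rintro _ ⟨a, ha, rfl⟩ s
      rw [mul_comm]
      exact (hI a).1 ha s
    · intro s
      rw [mul_zero]
      exact zero_mem _
    · intro x y _ _ hx hy s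
      rw [mul_add]
      exact add_mem (hx s) (hy s)
    · intro r x _ hx s
      rw [smul_eq_mul, ← mul_assoc]
      exact hx _
  refine ⟨Q, hQprime, fun f hf => ?_, b₀, fun s hs hsb => ?_⟩
  · -- t f ^ m ∈ I S
    obtain ⟨t, m, ht, htm⟩ : ∃ (t : A) (m : ℕ), t ∉ P ∧
        algebraMap A S t * f ^ m ∈ I.map (algebraMap A S) := by
      by_contra hcon
      push Not at hcon
      let M : Submonoid S := (P.primeCompl.map (algebraMap A S)) ⊔ Submonoid.powers f
      have hdisj : Disjoint ((I.map (algebraMap A S) : Ideal S) : Set S) M := by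
        rw [Set.disjoint_left]
        intro y hy hyM
        obtain ⟨a, ha, b, hb, rfl⟩ := Submonoid.mem_sup.1 hyM
        obtain ⟨t, ht, rfl⟩ := ha
        obtain ⟨m, rfl⟩ := hb
        exact hcon t m ht hy
      obtain ⟨Q₁, hQ₁, hIQ, hQM⟩ := Ideal.exists_le_prime_disjoint _ _ hdisj
      have h0 : Q₁.comap (algebraMap A S) ≤ P := by
        intro a ha
        by_contra haP
        have : algebraMap A S a ∈ M := Submonoid.mem_sup_left ⟨a, haP, rfl⟩
        exact Set.disjoint_left.1 hQM ha this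
      have h1 : Q₁.comap (algebraMap A S) = P :=
        le_antisymm h0 (hP.2 ⟨Ideal.comap_isPrime _ _, Ideal.map_le_iff_le_comap.1 hIQ⟩ h0)
      have h2 : Q₁ = Q := huniq Q₁ Q (h1.trans hQP.symm)
      exact Set.disjoint_left.1 hQM (h2 ▸ hf) (Submonoid.mem_sup_right (Submonoid.mem_powers f))
    refine ⟨t, (hmem t).2 ht, ?_⟩
    have hpow : ∀ n, m + 1 ≤ n → (algebraMap A S t * f) ^ n ∈ (algebraMap A S).range := by
      intro n hn
      obtain ⟨k, rfl⟩ := Nat.exists_eq_add_of_le hn
      have := hIS _ htm (algebraMap A S t ^ (m + k) * f ^ (k + 1))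
      convert this using 1
      ring
    by_contra hcon
    obtain ⟨b', hb', h2, h3⟩ := Groth.Agent.S7397.result (algebraMap A S).range
      (algebraMap A S t * f) hcon (m + 2) (by omega) (hpow _ (by omega)) (hpow _ (by omega))
    exact hb' (hno b' h2 h3)
  · apply hm s ((hmem s).1 hs)
    rw [← map_smul, Submodule.mkQ_apply, Submodule.Quotient.mk_eq_zero, hN, Algebra.smul_def]
    exact hsb

/-- the residue fields trivial case. -/
theorem exists_sq_cube_aux {A S : Type u} [CommRing A] [CommRing S] [Algebra A S] [Module.Finite A S]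
    (hinj : Function.Injective (algebraMap A S))
    (hne : ∃ x : S, x ∉ (algebraMap A S).range)
    (huniq : ∀ (Q Q' : Ideal S) [Q.IsPrime] [Q'.IsPrime],
      Q.comap (algebraMap A S) = Q'.comap (algebraMap A S) → Q = Q')
    (hres : ∀ (Q : Ideal S) [Q.IsPrime] (b : S), ∃ s a : A, algebraMap A S s ∉ Q ∧
      algebraMap A S s * b - algebraMap A S a ∈ Q) :
    ∃ b : S, b ∉ (algebraMap A S).range ∧ b ^ 2 ∈ (algebraMap A S).range ∧
      b ^ 3 ∈ (algebraMap A S).range := by
  by_contra hcon
  push Not at hcon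
  obtain ⟨Q, hQ, hf, b₀, hb₀⟩ := core hinj hne huniq (fun b h2 h3 => by
    by_contra hb
    exact hcon b hb h2 h3)
  obtain ⟨s, a, hs, hsa⟩ := hres Q b₀
  obtain ⟨t, ht, hta⟩ := hf _ hsa
  refine hb₀ (t * s) ?_ ?_
  · rw [map_mul]
    exact fun h => (hQ.mem_or_mem h).elim ht hs
  · have h1 : algebraMap A S (t * a) ∈ (algebraMap A S).range := ⟨_, rfl⟩
    have := add_mem hta h1
    convert this using 1
    rw [map_mul, map_mul]
    ring

/-- the general case. -/
theorem exists_sq_cube_or_prime_aux {A S : Type u} [CommRing A] [CommRing S] [Algebra A S]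
    [Module.Finite A S]
    (hinj : Function.Injective (algebraMap A S))
    (hne : ∃ x : S, x ∉ (algebraMap A S).range)
    (huniq : ∀ (Q Q' : Ideal S) [Q.IsPrime] [Q'.IsPrime],
      Q.comap (algebraMap A S) = Q'.comap (algebraMap A S) → Q = Q')
    (hres : ∀ (Q : Ideal S) [Q.IsPrime], ∃ q : ℕ, (q = 1 ∨ (q.Prime ∧ (q : S) ∈ Q)) ∧
      ∀ b : S, ∃ (n : ℕ) (s a : A), algebraMap A S s ∉ Q ∧
        algebraMap A S s * b ^ q ^ n - algebraMap A S a ∈ Q) :
    (∃ b : S, b ∉ (algebraMap A S).range ∧ b ^ 2 ∈ (algebraMap A S).range ∧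
      b ^ 3 ∈ (algebraMap A S).range) ∨
    ∃ (p : ℕ) (b : S), p.Prime ∧ b ∉ (algebraMap A S).range ∧
      (p : S) * b ∈ (algebraMap A S).range ∧ b ^ p ∈ (algebraMap A S).range := by
  classical
  by_cases hcon : ∃ b : S, b ∉ (algebraMap A S).range ∧ b ^ 2 ∈ (algebraMap A S).range ∧
      b ^ 3 ∈ (algebraMap A S).range
  · exact Or.inl hcon
  right
  push Not at hcon
  obtain ⟨Q, hQ, hf, b₀, hb₀⟩ := core hinj hne huniq (fun b h2 h3 => by
    by_contra hb
    exact hcon b hb h2 h3)
  obtain ⟨q, hq, hres⟩ := hres Q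
  -- b₀ is not congruent to an element of κ(P)
  have hb₀' : ¬ ∃ s a : A, algebraMap A S s ∉ Q ∧ algebraMap A S s * b₀ - algebraMap A S a ∈ Q := by
    rintro ⟨s, a, hs, hsa⟩
    obtain ⟨t, ht, hta⟩ := hf _ hsa
    refine hb₀ (t * s) ?_ ?_
    · rw [map_mul]
      exact fun h => (hQ.mem_or_mem h).elim ht hs
    · have h1 : algebraMap A S (t * a) ∈ (algebraMap A S).range := ⟨_, rfl⟩
      have := add_mem hta h1
      convert this using 1
      rw [map_mul, map_mul]
      ring
  have hex := hres b₀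
  have hfind := Nat.find_spec hex
  have hpos : Nat.find hex ≠ 0 := by
    intro h
    obtain ⟨s, a, hs, hsa⟩ := hfind
    rw [h, pow_zero, pow_one] at hsa
    exact hb₀' ⟨s, a, hs, hsa⟩
  obtain ⟨n, hn⟩ := Nat.exists_eq_succ_of_ne_zero hpos
  have hnot := Nat.find_min hex (m := n) (by omega)
  rw [hn] at hfind
  rcases hq with rfl | ⟨hp, hpQ⟩
  · exact absurd ⟨_, _, hfind.choose_spec.choose_spec.1, by
      simpa using hfind.choose_spec.choose_spec.2⟩ hb₀'
  obtain ⟨s, a, hs, hsa⟩ := hfind
  -- b := b₀ ^ q ^ n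
  have e1 : (b₀ ^ q ^ n) ^ q = b₀ ^ q ^ (n + 1) := by
    rw [← pow_mul, ← pow_succ]
  rw [Nat.succ_eq_add_one, ← e1] at hsa
  generalize hb : b₀ ^ q ^ n = b at hnot hsa
  -- first scaling
  have hsa' : (algebraMap A S s * b) ^ q - algebraMap A S (s ^ (q - 1) * a) ∈ Q := by
    have := Q.mul_mem_left (algebraMap A S s ^ (q - 1)) hsa
    convert this using 1
    rw [map_mul, map_pow, mul_pow]
    have : algebraMap A S s ^ q = algebraMap A S s ^ (q - 1) * algebraMap A S s := by
      rw [← pow_succ, Nat.sub_add_cancel hp.one_le]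
    rw [this]
    ring
  obtain ⟨t, ht, hta⟩ := hf _ hsa'
  have hta' : (algebraMap A S (t * s) * b) ^ q ∈ (algebraMap A S).range := by
    have h1 : algebraMap A S (t * (s ^ (q - 1) * a)) ∈ (algebraMap A S).range := ⟨_, rfl⟩
    have h2 := add_mem hta h1
    have h3 : algebraMap A S (t ^ (q - 1)) ∈ (algebraMap A S).range := ⟨_, rfl⟩
    have h4 := mul_mem h3 h2
    convert h4 using 1
    have : algebraMap A S t ^ q = algebraMap A S t ^ (q - 1) * algebraMap A S t := by
      rw [← pow_succ, Nat.sub_add_cancel hp.one_le]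
    simp only [map_mul, mul_pow, map_pow, this]
    ring
  have hpb : (q : S) * (algebraMap A S (t * s) * b) ∈ Q := Q.mul_mem_right _ hpQ
  obtain ⟨t', ht', hta''⟩ := hf _ hpb
  refine ⟨q, algebraMap A S t' * (algebraMap A S (t * s) * b), hp, ?_, ?_, ?_⟩
  · intro hmem
    obtain ⟨c, hc⟩ := hmem
    apply hnot
    refine ⟨t' * (t * s), c, ?_, ?_⟩
    · rw [map_mul, map_mul]
      exact fun h => (hQ.mem_or_mem h).elim ht' (fun h => (hQ.mem_or_mem h).elim ht hs)
    · rw [hc]
      rw [map_mul]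
      have : algebraMap A S t' * algebraMap A S (t * s) * b -
          algebraMap A S t' * (algebraMap A S (t * s) * b) = 0 := by ring
      rw [this]
      exact Q.zero_mem
  · have : (q : S) * (algebraMap A S t' * (algebraMap A S (t * s) * b)) =
      algebraMap A S t' * ((q : S) * (algebraMap A S (t * s) * b)) := by ring
    rw [this]
    exact hta''
  · rw [mul_pow]
    exact mul_mem ⟨t' ^ q, by rw [map_pow]⟩ hta'

end K383.UH
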