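import Groth.Agent.Mor.K383.UH
import Mathlib.RingTheory.IntegralClosure.IsIntegral.Basic

/-! # Subalgebras and universal homeomorphisms -/

set_option autoImplicit false
universe u
open CategoryTheory AlgebraicGeometry Limits

namespace K383.UH

theorem universallyInjective_of_surjective_comp {X Y Z : Scheme.{u}} (s : X ⟶ Y) (f : Y ⟶ Z)
    [Surjective s] (h : UniversallyInjective (s ≫ f)) : UniversallyInjective f := by
  constructor
  intro Y' Z' i₁ i₂ f' sq
  have sq' := (IsPullback.of_hasPullback s i₁).flip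
  have h1 : Surjective (pullback.snd s i₁) := inferInstance
  have h2 : UniversallyInjective (pullback.snd s i₁ ≫ f') :=
    MorphismProperty.of_isPullback (sq'.paste_horiz sq).flip h
  have h3 : Function.Injective (pullback.snd s i₁ ≫ f' : _ ⟶ _) := Scheme.Hom.injective _
  change Function.Injective f'
  intro y y' hyy'
  obtain ⟨x, rfl⟩ := h1.surj y
  obtain ⟨x', rfl⟩ := h1.surj y'
  have : x = x' := h3 (by simpa using hyy')
  rw [this]

theorem universallyClosed_iff {A B : Type u} [CommRing A] [CommRing B] (φ : A →+* B) :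
    UniversallyClosed (Spec.map (CommRingCat.ofHom φ)) ↔ φ.IsIntegral := by
  have h := IsIntegralHom.SpecMap_iff (φ := CommRingCat.ofHom φ)
  rw [← show _ ↔ φ.IsIntegral from h, IsIntegralHom.iff_universallyClosed_and_isAffineHom]
  exact ⟨fun h => ⟨h, inferInstance⟩, fun h => h.1⟩

section Subalgebra

variable {A B : Type u} [CommRing A] [CommRing B] [Algebra A B] (B' : Subalgebra A B)

include B' in
theorem isIntegral_sub (h : (algebraMap A B).IsIntegral) : (algebraMap A B').IsIntegral := by
  intro x
  have : Algebra.IsIntegral A B := ⟨h⟩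
  have : Algebra.IsIntegral A B' := Algebra.IsIntegral.of_injective B'.val Subtype.val_injective
  exact Algebra.IsIntegral.isIntegral x

theorem surjective_sub (h : (algebraMap A B).IsIntegral) :
    Surjective (Spec.map (CommRingCat.ofHom (algebraMap B' B))) := by
  constructor
  show Function.Surjective (PrimeSpectrum.comap (algebraMap B' B))
  have : Algebra.IsIntegral A B := ⟨h⟩
  have : Algebra.IsIntegral B' B := Algebra.IsIntegral.tower_top A
  exact RingHom.IsIntegral.comap_surjective (fun x => Algebra.IsIntegral.isIntegral x)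
    Subtype.val_injective

theorem comp_sub : Spec.map (CommRingCat.ofHom (algebraMap B' B)) ≫
    Spec.map (CommRingCat.ofHom (algebraMap A B')) =
      Spec.map (CommRingCat.ofHom (algebraMap A B)) := by
  rw [← Spec.map_comp, ← CommRingCat.ofHom_comp]
  rfl

theorem universallyInjective_sub (h : (algebraMap A B).IsIntegral)
    (hi : UniversallyInjective (Spec.map (CommRingCat.ofHom (algebraMap A B)))) :
    UniversallyInjective (Spec.map (CommRingCat.ofHom (algebraMap A B'))) := by
  have := surjective_sub B' h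
  rw [← comp_sub B'] at hi
  exact universallyInjective_of_surjective_comp _ _ hi

theorem isUnivHomeo_sub (h : FlatMor.IsUnivHomeo (Spec.map (CommRingCat.ofHom (algebraMap A B)))) :
    FlatMor.IsUnivHomeo (Spec.map (CommRingCat.ofHom (algebraMap A B'))) := by
  have h0 := ((isUnivHomeo_iff _).1 h).1
  rw [Groth.Agent.FlatA.UnivHomeo.isUnivHomeo_iff] at h ⊢
  refine ⟨?_, universallyInjective_sub B' h0 h.2.1, ?_⟩
  · rw [IsIntegralHom.SpecMap_iff]
    exact isIntegral_sub B' h0
  · have h3 := h.2.2
    rw [← comp_sub B'] at h3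
    constructor
    have h4 := h3.surj
    intro y
    obtain ⟨x, hx⟩ := h4 y
    exact ⟨_, by simpa using hx⟩

/-- the top part: `Spec B → Spec B'`. -/
theorem isUnivHomeo_top (h : FlatMor.IsUnivHomeo (Spec.map (CommRingCat.ofHom (algebraMap A B)))) :
    FlatMor.IsUnivHomeo (Spec.map (CommRingCat.ofHom (algebraMap B' B))) := by
  have h1 := isUnivHomeo_sub B' h
  rw [← comp_sub B'] at h
  exact Groth.Agent.FlatA.UnivHomeo.isUnivHomeo_of_postcomp _ _ h h1

theorem residue_sub (hint : (algebraMap A B).IsIntegral)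
    (h : ∀ (Q : Ideal B) [Q.IsPrime] (b : B), ∃ s a : A, algebraMap A B s ∉ Q ∧
      algebraMap A B s * b - algebraMap A B a ∈ Q)
    (Q : Ideal B') [Q.IsPrime] (b : B') : ∃ s a : A, algebraMap A B' s ∉ Q ∧
      algebraMap A B' s * b - algebraMap A B' a ∈ Q := by
  obtain ⟨Q₁, hQ₁⟩ := (surjective_sub B' hint).surj ⟨Q, inferInstance⟩
  have hQ : Q = Q₁.asIdeal.comap (algebraMap B' B) := (congrArg PrimeSpectrum.asIdeal hQ₁).symm
  obtain ⟨s, a, hs, hsa⟩ := @h Q₁.asIdeal Q₁.isPrime (b : B)
  refine ⟨s, a, ?_, ?_⟩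
  · rw [hQ, Ideal.mem_comap]
    exact hs
  · rw [hQ, Ideal.mem_comap]
    exact hsa

theorem residue_top
    (h : ∀ (Q : Ideal B) [Q.IsPrime] (b : B), ∃ s a : A, algebraMap A B s ∉ Q ∧
      algebraMap A B s * b - algebraMap A B a ∈ Q)
    (Q : Ideal B) [Q.IsPrime] (b : B) : ∃ s a : B', algebraMap B' B s ∉ Q ∧
      algebraMap B' B s * b - algebraMap B' B a ∈ Q := by
  obtain ⟨s, a, hs, hsa⟩ := h Q b
  exact ⟨algebraMap A B' s, algebraMap A B' a, hs, hsa⟩

end Subalgebra

end K383.UH
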